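import Groth.Agent.ProEtLib.EpsColim
import Groth.Agent.ProEtLib.Ring
import Groth.Agent.Hensel.Colim
import Groth.Agent.S0176

/-! every object of the small pro-etale site is covered by limits of affine etale schemes -/

universe u

open CategoryTheory CategoryTheory.Limits AlgebraicGeometry Opposite MorphismProperty

noncomputable section

set_option backward.isDefEq.respectTransparency false
set_option backward.isDefEq.respectTransparency.types false

namespace Groth.Agent.ProEtLib.PushCmp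

open ProStage

variable {X : Scheme.{u}}

/-- limit of affine etale schemes over an affine etale scheme -/
def IsProObj (P : X.ProEt) : Prop :=
  ∃ (U₀ : X.Etale) (_ : IsAffine U₀.left) (w : P ⟶ (ProEtS.eps X).obj U₀), IsPro (ovS w)

theorem exists_isPro_cover {U₀ : X.Etale} [IsAffine U₀.left] {O : X.ProEt} [IsAffine O.left]
    (w : O ⟶ (ProEtS.eps X).obj U₀) :
    ∃ (P : X.ProEt) (g : P ⟶ O), Sieve.generate (Presieve.singleton g) ∈ Scheme.ProEt.topology X O ∧
      IsPro (ovS (g ≫ w)) := by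
  let f : O.left ⟶ U₀.left := w.left
  letI : Algebra Γ(U₀.left, ⊤) Γ(O.left, ⊤) := f.appTop.hom.toAlgebra
  haveI : WeaklyEtale f := weaklyEtale_left w
  haveI : Algebra.WeaklyEtale Γ(U₀.left, ⊤) Γ(O.left, ⊤) := by
    have e : Spec.map f.appTop = O.left.isoSpec.inv ≫ f ≫ U₀.left.isoSpec.hom := by
      rw [Iso.eq_inv_comp, Scheme.isoSpec_hom_naturality]
    have : WeaklyEtale (Spec.map f.appTop) := by rw [e]; infer_instance
    exact (weaklyEtale_spec_iff f.appTop).1 this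
  obtain ⟨R, _, _, _, htow, hff, hie, hie'⟩ := S0176.result Γ(U₀.left, ⊤) Γ(O.left, ⊤)
  haveI : Algebra.WeaklyEtale Γ(O.left, ⊤) R := S0736.result _ _ hie
  have := weaklyEtale_spec Γ(O.left, ⊤) R
  have : Surjective (Spec.map (CommRingCat.ofHom (algebraMap Γ(O.left, ⊤) R))) :=
    ⟨PrimeSpectrum.comap_surjective_of_faithfullyFlat⟩
  have : WeaklyEtale O.hom := O.prop
  let p : Spec (CommRingCat.of R) ⟶ O.left :=
    Spec.map (CommRingCat.ofHom (algebraMap Γ(O.left, ⊤) R)) ≫ O.left.isoSpec.inv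
  let P : X.ProEt := Scheme.ProEt.mk (p ≫ O.hom)
  let g : P ⟶ O := MorphismProperty.Over.homMk p
  refine ⟨P, g, @singleton_mem_topology _ _ _ g (inferInstanceAs (QuasiCompact p))
    (inferInstanceAs (Surjective p)), ?_⟩
  have : IsAffine (ovS (g ≫ w)).left := inferInstanceAs (IsAffine (Spec (CommRingCat.of R)))
  refine isPro_of_isIndEtale ?_
  letI : Algebra Γ(U₀.left, ⊤) Γ((ovS (g ≫ w)).left, ⊤) := (ovS (g ≫ w)).hom.appTop.hom.toAlgebra
  let e : R ≃+* Γ((ovS (g ≫ w)).left, ⊤) := (Scheme.ΓSpecIso (CommRingCat.of R)).symm.commRingCatIsoToRingEquiv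
  refine Hensel.isIndEtale_of_algEquiv hie' (AlgEquiv.ofRingEquiv (f := e) fun a => ?_)
  have h2 : O.left.isoSpec.inv.appTop = (Scheme.ΓSpecIso Γ(O.left, ⊤)).inv := by
    rw [← cancel_mono (Scheme.ΓSpecIso Γ(O.left, ⊤)).hom, Iso.inv_hom_id]
    have h1 := congrArg (fun q : O.left ⟶ O.left => q.appTop) O.left.isoSpec.hom_inv_id
    simp only [Scheme.Hom.comp_appTop, Scheme.isoSpec_hom, Scheme.toSpecΓ_appTop] at h1
    exact h1.trans (by rfl)
  have h3 : (p ≫ f).appTop = f.appTop ≫ CommRingCat.ofHom (algebraMap Γ(O.left, ⊤) R) ≫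
      (Scheme.ΓSpecIso (CommRingCat.of R)).inv := by
    rw [Scheme.Hom.comp_appTop, Scheme.Hom.comp_appTop, h2, Scheme.ΓSpecIso_inv_naturality]
  refine Eq.trans ?_ (ConcreteCategory.congr_hom h3 a).symm
  change e (algebraMap Γ(U₀.left, ⊤) R a) = e (algebraMap Γ(O.left, ⊤) R (f.appTop a))
  rw [IsScalarTower.algebraMap_apply Γ(U₀.left, ⊤) Γ(O.left, ⊤) R]
  rfl

theorem exists_isProObj_cover (T : X.ProEt) :
    ∃ (ι : Type u) (V : ι → X.ProEt) (g : ∀ i, V i ⟶ T),
      Sieve.generate (Presieve.ofArrows V g) ∈ Scheme.ProEt.topology X T ∧ ∀ i, IsProObj (V i) := by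
  have h : ∀ x : T.left, ∃ (O : T.left.Opens) (P : X.ProEt) (g : P ⟶ opObj T O), x ∈ O ∧
      Sieve.generate (Presieve.singleton g) ∈ Scheme.ProEt.topology X (opObj T O) ∧ IsProObj P := fun x => by
    obtain ⟨A, hA, hxA, -⟩ :=
      exists_isAffineOpen_mem_and_subset (show T.hom.base x ∈ (⊤ : X.Opens) from trivial)
    obtain ⟨O, hO, hxO, hOA⟩ := exists_isAffineOpen_mem_and_subset (show x ∈ T.hom ⁻¹ᵁ A from hxA)
    let U₀ : X.Etale := Scheme.Etale.mk A.ι
    haveI : IsAffine U₀.left := hA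
    haveI : IsAffine (opObj T O).left := hO
    let w : opObj T O ⟶ (ProEtS.eps X).obj U₀ :=
      MorphismProperty.Over.homMk (T.hom.resLE A O hOA) (Scheme.Hom.resLE_comp_ι _ _)
    obtain ⟨P, g, hg, hP⟩ := exists_isPro_cover w
    exact ⟨O, P, g, hxO, hg, U₀, hA, g ≫ w, hP⟩
  choose O V g hx hg hV using h
  refine ⟨T.left, V, fun x => g x ≫ opHom T (O x), ?_, hV⟩
  refine mem_topology_of_family _ _ _ (opens_mem_topology T O fun x => ⟨x, hx x⟩) fun x => ?_
  refine GrothendieckTopology.superset_covering _ ?_ (hg x)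
  rintro Y f ⟨Z, a, _, ⟨⟩, rfl⟩
  exact ⟨_, a, _, ⟨x⟩, by simp⟩

end Groth.Agent.ProEtLib.PushCmp
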