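import Groth.Agent.ProEtLib.PushCmp.Surj
import Groth.Agent.ProEtLib.PushCmp.Cover
import Groth.Agent.SitePullUnit.DerivedClass

/-! direct images along qcqs morphisms: acyclicity of pulled back injectives -/

universe u

open CategoryTheory CategoryTheory.Limits AlgebraicGeometry Opposite MorphismProperty

noncomputable section

set_option backward.isDefEq.respectTransparency false
set_option backward.isDefEq.respectTransparency.types false

namespace Groth.Agent.ProEtLib.PushCmp

open EtModLib ProStage SitePullUnit

variable {X Y : Scheme.{u}} (f : X ⟶ Y)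

theorem isPullback_bcP_map {V U : Y.ProEt} (g : V ⟶ U) :
    IsPullback ((ProEtS.bcP f).map g).left (pullback.fst V.hom f : ((ProEtS.bcP f).obj V).left ⟶ V.left)
      (pullback.fst U.hom f : ((ProEtS.bcP f).obj U).left ⟶ U.left) g.left := by
  have e1 : ((ProEtS.bcP f).map g).left ≫ pullback.snd U.hom f = pullback.snd V.hom f :=
    MorphismProperty.Over.w ((ProEtS.bcP f).map g)
  have e2 : g.left ≫ U.hom = V.hom := MorphismProperty.Over.w g
  refine IsPullback.of_right (h₁₂ := pullback.snd U.hom f) (v₁₃ := f) (h₂₂ := U.hom) ?_ ?_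
    (IsPullback.of_hasPullback U.hom f).flip
  · exact (congrArg₂ (fun a d => IsPullback a (pullback.fst V.hom f) f d) e1 e2).mpr
      (IsPullback.of_hasPullback V.hom f).flip
  · exact pullback.lift_fst _ _ _

variable {U₀ : Y.Etale} [IsAffine U₀.left] {W : Y.ProEt} (w : W ⟶ (ProEtS.eps Y).obj U₀)

/-- the stages of a limit of affine etale schemes -/
def stg : StructuredArrow (ovS w) (toOv U₀.left) ⥤ Y.ProEt :=
  StructuredArrow.proj (ovS w) (toOv U₀.left) ⋙ toX U₀ ⋙ ProEtS.eps Y

/-- the cone on the stages -/
def stgCone : Cone (stg w) where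
  pt := W
  π :=
    { app := fun a => sMap a
      naturality := fun a b g => (Category.id_comp _).trans (sMap_map g).symm }

theorem isAffine_stg (a : StructuredArrow (ovS w) (toOv U₀.left)) : IsAffine ((stg w).obj a).left :=
  isAffine_toOv a.right

theorem etale_stg (a : StructuredArrow (ovS w) (toOv U₀.left)) : Etale ((stg w).obj a).hom :=
  ((toX U₀).obj a.right).prop

theorem qSys_bcP [QuasiCompact f] [QuasiSeparated f] : QSys (stg w ⋙ ProEtS.bcP f) where
  aff a b g := by
    haveI := isAffine_stg w a
    haveI := isAffine_stg w b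
    exact MorphismProperty.of_isPullback (P := @IsAffineHom)
      (isPullback_bcP_map f ((stg w).map g)).flip
      (inferInstanceAs (IsAffineHom ((stg w).map g).left))
  cpt a := by
    haveI := isAffine_stg w a
    haveI : CompactSpace ((stg w).obj a).left := inferInstance
    haveI : CompactSpace ((𝟭 Scheme).obj ((stg w).obj a).left) := this
    haveI : QuasiCompact (pullback.fst ((stg w).obj a).hom f) :=
      MorphismProperty.pullback_fst (P := @QuasiCompact) _ _ inferInstance
    exact QuasiCompact.compactSpace_of_compactSpace (pullback.fst ((stg w).obj a).hom f)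
  qs a := by
    haveI := isAffine_stg w a
    haveI : QuasiSeparatedSpace ((stg w).obj a).left := inferInstance
    haveI : QuasiSeparatedSpace ((𝟭 Scheme).obj ((stg w).obj a).left) := this
    haveI : QuasiSeparated (pullback.fst ((stg w).obj a).hom f) :=
      MorphismProperty.pullback_fst (P := @QuasiSeparated) _ _ inferInstance
    exact quasiSeparatedSpace_of_quasiSeparated (pullback.fst ((stg w).obj a).hom f)
  et a := MorphismProperty.pullback_snd (P := @Etale) _ _ (etale_stg w a)

variable {w}

theorem nonempty_isLimit_stgCone (hW : IsPro (ovS w)) : Nonempty (IsLimit (schCone (stgCone w))) :=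
  ⟨hW.isLimit.some⟩

theorem nonempty_isLimit_bcP (hW : IsPro (ovS w)) :
    Nonempty (IsLimit (schCone ((ProEtS.bcP f).mapCone (stgCone w)))) := by
  haveI : IsConnected (StructuredArrow (ovS w) (toOv U₀.left)) := IsCofiltered.isConnected _
  let α : sch (stg w ⋙ ProEtS.bcP f) ⟶ sch (stg w) :=
    { app := fun a => pullback.fst ((stg w).obj a).hom f
      naturality := fun a b g => (isPullback_bcP_map f ((stg w).map g)).w }
  exact ⟨isLimitOfIsPullbackOfIsConnected α (schCone ((ProEtS.bcP f).mapCone (stgCone w)))
    (schCone (stgCone w))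
    { hom := pullback.fst W.hom f
      w := fun a => ((isPullback_bcP_map f ((stgCone w).π.app a)).w).symm }
    (fun a => isPullback_bcP_map f ((stgCone w).π.app a)) (nonempty_isLimit_stgCone hW).some⟩

section Push

variable [ProEtS.EpsCont X] [ProEtS.PCont f] [QuasiCompact f] [QuasiSeparated f]
  {S : ShortComplex (ProEtS.AbP X)}

theorem epi_pushP (hS : S.ShortExact) (h₁ : CechClass S.X₁) (h₂ : QClass S.X₁) :
    Epi ((ProEtS.pushP f).map S.g) := by
  rw [← Sheaf.isLocallySurjective_iff_epi']
  refine ⟨fun {T} s => ?_⟩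
  obtain ⟨ι, V, g, hg, hV⟩ := exists_isProObj_cover T
  refine GrothendieckTopology.superset_covering _ ?_ hg
  rintro Z h ⟨V', a, _, ⟨i⟩, rfl⟩
  obtain ⟨U, hU, v, hv⟩ := hV i
  obtain ⟨t, ht⟩ := surjective_qsys hS h₁ h₂ (qSys_bcP f v) (nonempty_isLimit_bcP f hv).some
    (((ProEtS.pushP f).obj S.X₃).obj.map (g i).op s)
  exact Sieve.downward_closed (Presheaf.imageSieve ((ProEtS.pushP f).map S.g).hom s) ⟨t, ht⟩ a

/-- higher direct images of pulled back injectives vanish -/
theorem isZero_RpushP_epsPull_injective (J : EtCoh.Ab X) [Injective J] (q : ℕ) :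
    IsZero ((ProEtS.RpushP f (q + 1)).obj ((ProEtS.epsPull X).obj J)) := by
  have : PreservesFiniteLimits (ProEtS.pushP f) :=
    have := (ProEtS.pullPushAdjP f).rightAdjoint_preservesLimits
    inferInstance
  exact isZero_rightDerived_of_class (ProEtS.pushP f) (fun M => CechClass M ∧ QClass M)
    (fun S hS h hI => ⟨cechClass_X₃ hS h.1 (@cechClass_injective X _ S.X₂ hI),
      qClass_X₃ hS h.1 h.2 (@qClass_injective X S.X₂ hI)⟩)
    (fun S hS h _ => epi_pushP f hS h.1 h.2)
    ⟨cechClass_epsPull_injective J, qClass_epsPull_injective J⟩ q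

end Push

end Groth.Agent.ProEtLib.PushCmp
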