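import Groth.Agent.EtModLib.PLC.System
import Groth.Agent.ProStage.EtaleStage
import Groth.Agent.ProEtLib.Qcqs.Objects

/-! Fibre powers of a pulled back morphism; systems of qcqs etale objects. -/

universe u

open CategoryTheory CategoryTheory.Limits AlgebraicGeometry Opposite

noncomputable section

set_option backward.isDefEq.respectTransparency false
set_option backward.isDefEq.respectTransparency.types false

namespace Groth.Agent.ProEtLib.PushCmp

open EtModLib ProStage Qcqs

variable {X : Scheme.{u}}

section Powers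

variable {P U : X.ProEt} {g : P ⟶ U} (Q : Powers g) {T : X.ProEt} (v : T ⟶ U)

/-- fibre powers of a base change -/
def bpPowers : Powers (pbSnd g v) where
  obj n := pbObj (Q.toBase n) v
  toBase n := pbSnd (Q.toBase n) v
  pr n k := pbLift (pbFst (Q.toBase n) v ≫ Q.pr n k) (pbSnd (Q.toBase n) v)
    (by rw [Category.assoc, Q.pr_comp, pb_condition])
  pr_comp n k := pbLift_snd _ _ _
  lift n _ q t h := pbLift
    (Q.lift n (q ≫ v) (fun k => t k ≫ pbFst g v) fun k => by
      rw [Category.assoc, pb_condition, reassoc_of% (h k)])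
    q (Q.lift_toBase _ _ _)
  lift_pr n _ q t h k := by
    refine pb_hom_ext ?_ ?_
    · rw [Category.assoc, pbLift_fst, pbLift_fst_assoc, Q.lift_pr]
    · rw [Category.assoc, pbLift_snd, pbLift_snd]
      exact (h k).symm
  hom_ext n _ a b h := pb_hom_ext
    (Q.hom_ext n _ _ fun k => by
      have := congrArg (· ≫ pbFst g v) (h k)
      simpa using this)
    (by
      have := congrArg (· ≫ pbSnd g v) (h 0)
      simpa using this)

variable {v} {T' : X.ProEt} {v' : T' ⟶ U} (a : T' ⟶ T) (ha : a ≫ v = v')

/-- functoriality in the base -/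
def bpMap (n : ℕ) : (bpPowers Q v').obj n ⟶ (bpPowers Q v).obj n :=
  pbLift (pbFst (Q.toBase n) v') (pbSnd (Q.toBase n) v' ≫ a)
    (by rw [pb_condition, Category.assoc, ha])

theorem bpMap_pr (n : ℕ) (k : Fin (n + 1)) :
    bpMap Q a ha n ≫ (bpPowers Q v).pr n k =
      (bpPowers Q v').pr n k ≫ pbLift (pbFst g v') (pbSnd g v' ≫ a) (by rw [pb_condition, Category.assoc, ha]) :=
  pb_hom_ext (by simp [bpMap, bpPowers]) (by simp [bpMap, bpPowers])

theorem bpMap_face (n : ℕ) (j : Fin (n + 2)) :
    bpMap Q a ha (n + 1) ≫ (bpPowers Q v).face n j = (bpPowers Q v').face n j ≫ bpMap Q a ha n :=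
  (bpPowers Q v).hom_ext n _ _ fun k => by
    rw [Category.assoc, Category.assoc, Powers.face_pr, bpMap_pr, bpMap_pr, ← Category.assoc ((bpPowers Q v').face n j),
      Powers.face_pr]

theorem bpMap_d (A : ProEtS.AbP X) (n : ℕ) (y : A.obj.obj (op ((bpPowers Q v).obj n))) :
    A.obj.map (bpMap Q a ha (n + 1)).op ((bpPowers Q v).d A.obj y) =
      (bpPowers Q v').d A.obj (A.obj.map (bpMap Q a ha n).op y) := by
  rw [Powers.d, Powers.d, map_sum]
  refine Finset.sum_congr rfl fun j _ => ?_
  rw [map_zsmul]
  congr 1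
  simp only [← ConcreteCategory.comp_apply, ← Functor.map_comp, ← op_comp, bpMap_face]

end Powers

/-- cofiltered systems of qcqs objects etale over `X` with affine transition maps -/
structure QSys {I : Type u} [SmallCategory I] (D : I ⥤ X.ProEt) : Prop where
  aff : ∀ (i j : I) (a : i ⟶ j), IsAffineHom (D.map a).left
  cpt : ∀ i, CompactSpace ↥(D.obj i).left
  qs : ∀ i, QuasiSeparatedSpace ↥(D.obj i).left
  et : ∀ i, Etale (D.obj i).hom

theorem etale_left_of {V U : X.ProEt} (g : V ⟶ U) (hV : Etale V.hom) (hU : Etale U.hom) : Etale g.left := by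
  have : Etale (g.left ≫ U.hom) := by rw [MorphismProperty.Over.w g]; exact hV
  exact Etale.of_comp g.left U.hom

theorem isQcqsP_pbObj {W U V : X.ProEt} (w : W ⟶ U) (v : V ⟶ U) (hW : IsQcqsP W) [IsAffineHom v.left] :
    IsQcqsP (pbObj w v) := by
  have : IsAffineHom (pullback.fst w.left v.left) :=
    MorphismProperty.pullback_fst (P := @IsAffineHom) w.left v.left inferInstance
  have := hW.1
  have := hW.2
  exact ⟨QuasiCompact.compactSpace_of_compactSpace (pullback.fst w.left v.left),
    quasiSeparatedSpace_of_quasiSeparated (pullback.fst w.left v.left)⟩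

theorem etale_pbObj_hom {W U V : X.ProEt} (w : W ⟶ U) (v : V ⟶ U) (hW : Etale W.hom) (hU : Etale U.hom)
    (hV : Etale V.hom) : Etale (pbObj w v).hom := by
  have : Etale v.left := etale_left_of v hV hU
  have := hW
  exact inferInstanceAs (Etale (pullback.fst w.left v.left ≫ W.hom))

theorem isQcqs_schPow {V U : Scheme.{u}} (c : V ⟶ U) (hV : CompactSpace V ∧ QuasiSeparatedSpace V)
    [QuasiSeparatedSpace U] : ∀ n, CompactSpace (schPow c n).left ∧ QuasiSeparatedSpace (schPow c n).left
  | 0 => hV
  | n + 1 => by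
    obtain ⟨h1, h2⟩ := isQcqs_schPow c hV n
    obtain ⟨h3, h4⟩ := hV
    haveI : QuasiCompact c := quasiCompact_of_compactSpace _
    haveI : QuasiSeparated c := inferInstance
    exact ⟨QuasiCompact.compactSpace_of_compactSpace (pullback.fst (schPow c n).hom c),
      quasiSeparatedSpace_of_quasiSeparated (pullback.fst (schPow c n).hom c)⟩

theorem isQcqsP_proPowers {P U : X.ProEt} (g : P ⟶ U) (hP : IsQcqsP P) [QuasiSeparatedSpace U.left] (n : ℕ) :
    IsQcqsP ((proPowers g).obj n) :=
  isQcqs_schPow g.left hP n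

theorem etale_proPowers {P U : X.ProEt} (g : P ⟶ U) (hP : Etale P.hom) (hU : Etale U.hom) (n : ℕ) :
    Etale ((proPowers g).obj n).hom := by
  have : Etale g.left := etale_left_of g hP hU
  have := etale_schPow g.left n
  have := hU
  exact inferInstanceAs (Etale ((schPow g.left n).hom ≫ U.hom))

variable {I : Type u} [SmallCategory I] {D : I ⥤ X.ProEt} {i : I}

theorem QSys.pbSys (hD : QSys D) {W : X.ProEt} (w : W ⟶ D.obj i) (hW : IsQcqsP W) (hWe : Etale W.hom) :
    QSys (EtModLib.pbSys (D := D) w) where
  aff a b h := by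
    have hf : ∀ a : CategoryTheory.Over i, IsAffineHom (pullback.fst w.left (D.map a.hom).left) := fun a =>
      MorphismProperty.pullback_fst (P := @IsAffineHom) _ _ (hD.aff _ _ a.hom)
    have := hf b
    have e : ((EtModLib.pbSys (D := D) w).map h).left ≫ pullback.fst w.left (D.map b.hom).left =
        pullback.fst w.left (D.map a.hom).left := pullback.lift_fst _ _ _
    have : IsAffineHom (((EtModLib.pbSys (D := D) w).map h).left ≫ pullback.fst w.left (D.map b.hom).left) := by
      rw [e]; exact hf a
    exact IsAffineHom.of_comp _ (pullback.fst w.left (D.map b.hom).left)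
  cpt a := by
    have := hD.aff _ _ a.hom
    exact (isQcqsP_pbObj w (D.map a.hom) hW).1
  qs a := by
    have := hD.aff _ _ a.hom
    exact (isQcqsP_pbObj w (D.map a.hom) hW).2
  et a := etale_pbObj_hom w (D.map a.hom) hWe (hD.et i) (hD.et a.left)

end Groth.Agent.ProEtLib.PushCmp
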