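import Groth.Agent.ProEtLib.PushCmp.BasePow
import Groth.Agent.ProEtLib.LimSec.Main
import Groth.Agent.ProEtLib.EpsVanish

/-! A class of pro-etale sheaves acyclic on limits of qcqs etale schemes. -/

universe u

open CategoryTheory CategoryTheory.Limits AlgebraicGeometry Opposite

noncomputable section

set_option backward.isDefEq.respectTransparency false
set_option backward.isDefEq.respectTransparency.types false

namespace Groth.Agent.ProEtLib.PushCmp

open EtModLib ProStage Qcqs

variable {X : Scheme.{u}}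

/-- no higher Cech cohomology on limits of qcqs etale schemes, for covers coming from a stage -/
def QClass (A : ProEtS.AbP X) : Prop :=
  ∀ (I : Type u) (_ : SmallCategory I) (_ : IsCofiltered I) (D : I ⥤ X.ProEt), QSys D →
    ∀ (c : Cone D), IsLimit (schCone c) → ∀ (i : I) (P : X.ProEt) (g : P ⟶ D.obj i), IsQcqsP P → Etale P.hom →
      ∀ (n : ℕ) (z : A.obj.obj (op ((bpPowers (proPowers g) (c.π.app i)).obj (n + 1)))),
        (bpPowers (proPowers g) (c.π.app i)).d A.obj z = 0 →
          ∃ v, (bpPowers (proPowers g) (c.π.app i)).d A.obj (n := n) v = z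

theorem qClass_injective (J : ProEtS.AbP X) [Injective J] : QClass J := by
  intro I _ _ D _ c _ i P g _ _ n z hz
  have : Injective J.obj := Injective.injective_of_adjoint (sheafificationAdjunction _ _) J
  exact (bpPowers (proPowers g) (c.π.app i)).exists_preimage J.obj z hz

section Descend

variable {V U : X.ProEt} {g : V ⟶ U} (P : Powers g) (hV : Etale V.hom) (hU : Etale U.hom)
  (hP : ∀ n, Etale (P.obj n).hom)

/-- a pro-etale object which is etale, as an object of the etale site -/
def toE (W : X.ProEt) (h : Etale W.hom) : X.Etale :=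
  haveI := h
  Scheme.Etale.mk W.hom

/-- fibre powers on the etale site -/
def etPow : Powers (MorphismProperty.Over.homMk g.left (MorphismProperty.Over.w g) : toE V hV ⟶ toE U hU) where
  obj n := toE (P.obj n) (hP n)
  toBase n := MorphismProperty.Over.homMk (P.toBase n).left (MorphismProperty.Over.w (P.toBase n))
  pr n k := MorphismProperty.Over.homMk (P.pr n k).left (MorphismProperty.Over.w (P.pr n k))
  pr_comp n k := MorphismProperty.Over.Hom.ext (congrArg (fun f => f.left) (P.pr_comp n k) :)
  lift n T q t h := MorphismProperty.Over.homMk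
    (P.lift n (MorphismProperty.Over.homMk q.left (MorphismProperty.Over.w q) : (ProEtS.eps X).obj T ⟶ U)
      (fun k => MorphismProperty.Over.homMk (t k).left (MorphismProperty.Over.w (t k)))
      fun k => MorphismProperty.Over.Hom.ext (congrArg (fun f => f.left) (h k) :)).left
    (MorphismProperty.Over.w (P.lift n (MorphismProperty.Over.homMk q.left (MorphismProperty.Over.w q) : (ProEtS.eps X).obj T ⟶ U)
      (fun k => MorphismProperty.Over.homMk (t k).left (MorphismProperty.Over.w (t k)))
      fun k => MorphismProperty.Over.Hom.ext (congrArg (fun f => f.left) (h k) :)))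
  lift_pr n T q t h k := MorphismProperty.Over.Hom.ext (congrArg (fun f => f.left) (P.lift_pr n
    (MorphismProperty.Over.homMk q.left (MorphismProperty.Over.w q) : (ProEtS.eps X).obj T ⟶ U)
    (fun k => MorphismProperty.Over.homMk (t k).left (MorphismProperty.Over.w (t k)))
    (fun k => MorphismProperty.Over.Hom.ext (congrArg (fun f => f.left) (h k) :)) k) :)
  hom_ext n T a b h := MorphismProperty.Over.Hom.ext (congrArg (fun f => f.left)
    (P.hom_ext n (MorphismProperty.Over.homMk a.left (MorphismProperty.Over.w a) : (ProEtS.eps X).obj T ⟶ P.obj n)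
      (MorphismProperty.Over.homMk b.left (MorphismProperty.Over.w b))
      fun k => MorphismProperty.Over.Hom.ext (congrArg (fun f => f.left) (h k) :)) :)

theorem map_etPow_face (n : ℕ) (j : Fin (n + 2)) :
    (ProEtS.eps X).map ((etPow P hV hU hP).face n j) = P.face n j :=
  P.hom_ext n _ _ fun k => by
    rw [P.face_pr]
    exact MorphismProperty.Over.Hom.ext (congrArg (fun f => f.left) ((etPow P hV hU hP).face_pr n j k) :)

theorem exists_preimage_etale [ProEtS.EpsCont X] (A : ProEtS.AbP X) [Injective ((ProEtS.epsPush X).obj A)]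
    (n : ℕ) (z : A.obj.obj (op (P.obj (n + 1)))) (hz : P.d A.obj z = 0)
    (hV : Etale V.hom) (hU : Etale U.hom) (hP : ∀ n, Etale (P.obj n).hom) :
    ∃ v, P.d A.obj (n := n) v = z := by
  let E := etPow P hV hU hP
  let F := ((ProEtS.epsPush X).obj A).obj
  have : Injective F := Injective.injective_of_adjoint (sheafificationAdjunction _ _) ((ProEtS.epsPush X).obj A)
  have key : ∀ (m : ℕ) (y : A.obj.obj (op (P.obj m))), E.d F y = P.d A.obj y := fun m y => by
    refine Finset.sum_congr rfl fun j _ => ?_
    exact congrArg (fun f : P.obj (m + 1) ⟶ P.obj m => (-1 : ℤ) ^ (j : ℕ) • A.obj.map f.op y)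
      (map_etPow_face P hV hU hP m j)
  obtain ⟨v, hv⟩ := E.exists_preimage F z ((key _ z).trans hz)
  exact ⟨v, (key _ v).symm.trans hv⟩

end Descend

variable [ProEtS.EpsCont X]

theorem qClass_epsPull_injective (J : EtCoh.Ab X) [Injective J] : QClass ((ProEtS.epsPull X).obj J) := by
  intro I _ _ D hD c hc i P g hP hPe n z hz
  let A := (ProEtS.epsPull X).obj J
  have := isIso_unit_eps (X := X) J
  have : Injective ((ProEtS.epsPush X).obj A) :=
    Injective.of_iso (asIso ((ProEtS.epsAdj X).unit.app J)) ‹Injective J›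
  have hA : LimSec.FromEt A := LimSec.fromEt_epsPull J
  have := hD.qs i
  let Q := proPowers g
  have hQ : ∀ m, IsQcqsP (Q.obj m) := isQcqsP_proPowers g hP
  have hQe : ∀ m, Etale (Q.obj m).hom := etale_proPowers g hPe (hD.et i)
  have hS : ∀ m, QSys (EtModLib.pbSys (D := D) (Q.toBase m)) := fun m => hD.pbSys _ (hQ m) (hQe m)
  obtain ⟨a, y, hy⟩ : ∃ (a : CategoryTheory.Over i) (y : A.obj.obj (op (pbObj (Q.toBase (n + 1)) (D.map a.hom)))),
      A.obj.map ((pbCone c (Q.toBase (n + 1))).π.app a).op y = z := by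
    haveI := (hS (n + 1)).aff
    haveI := (hS (n + 1)).cpt
    haveI := (hS (n + 1)).qs
    exact LimSec.exists_lift (nonempty_isLimit_pbCone (Q.toBase (n + 1)) hc).some hA z
  have hπ : ∀ (b : CategoryTheory.Over i) m, (pbCone c (Q.toBase m)).π.app b =
      bpMap Q (c.π.app b.left) (c.w b.hom) m := fun b m => rfl
  have hdy : A.obj.map ((pbCone c (Q.toBase (n + 1 + 1))).π.app a).op
      ((bpPowers Q (D.map a.hom)).d A.obj y) = 0 := by
    rw [hπ]
    refine (bpMap_d Q (c.π.app a.left) (c.w a.hom) A (n + 1) y).trans ?_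
    rw [← hπ a (n + 1)]
    exact (congrArg ((bpPowers Q (c.π.app i)).d A.obj) hy).trans hz
  obtain ⟨b, h, hb⟩ : ∃ (b : CategoryTheory.Over i) (h : b ⟶ a),
      A.obj.map ((EtModLib.pbSys (D := D) (Q.toBase (n + 1 + 1))).map h).op
        ((bpPowers Q (D.map a.hom)).d A.obj y) = 0 := by
    haveI := (hS (n + 1 + 1)).aff
    haveI := (hS (n + 1 + 1)).cpt
    exact LimSec.exists_kill (nonempty_isLimit_pbCone (Q.toBase (n + 1 + 1)) hc).some hA _ hdy
  have hh : D.map h.left ≫ D.map a.hom = D.map b.hom := by rw [← D.map_comp, CategoryTheory.Over.w h]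
  let y' := A.obj.map (bpMap Q (D.map h.left) hh (n + 1)).op y
  have hy' : (bpPowers Q (D.map b.hom)).d A.obj y' = 0 := (bpMap_d Q (D.map h.left) hh A (n + 1) y).symm.trans hb
  obtain ⟨v, hv⟩ := exists_preimage_etale (bpPowers Q (D.map b.hom)) A n y' hy'
    (etale_pbObj_hom g (D.map b.hom) hPe (hD.et i) (hD.et b.left)) (hD.et b.left)
    (fun m => etale_pbObj_hom (Q.toBase m) (D.map b.hom) (hQe m) (hD.et i) (hD.et b.left))
  refine ⟨A.obj.map (bpMap Q (c.π.app b.left) (c.w b.hom) n).op v, ?_⟩
  refine (bpMap_d Q (c.π.app b.left) (c.w b.hom) A n v).symm.trans ?_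
  rw [hv]
  refine (LimSec.mapA _ _ _).trans (Eq.trans (congrArg (fun f => A.obj.map (Quiver.Hom.op f) y) ?_) hy)
  exact (congrArg (· ≫ bpMap Q (D.map h.left) hh (n + 1)) (hπ b (n + 1)).symm).trans
    ((pbCone c (Q.toBase (n + 1))).w h)

end Groth.Agent.ProEtLib.PushCmp
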