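import Groth.Agent.ProEtLib.PushCmp.Acyclic

/-! direct images along qcqs morphisms commute with the pullback from the etale site -/

universe u

open CategoryTheory CategoryTheory.Limits AlgebraicGeometry Opposite MorphismProperty

noncomputable section

set_option backward.isDefEq.respectTransparency false
set_option backward.isDefEq.respectTransparency.types false

namespace Groth.Agent.ProEtLib.PushCmp

open EtModLib ProStage SitePullUnit

variable {X Y : Scheme.{u}}

section Counit

variable [ProEtS.EpsCont Y] (A : ProEtS.AbP Y)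

/-- sections on limits of affine etale schemes come from the stages -/
structure StageSec : Prop where
  lift : ∀ (U₀ : Y.Etale) (_ : IsAffine U₀.left) (W : Y.ProEt) (w : W ⟶ (ProEtS.eps Y).obj U₀), IsPro (ovS w) →
    ∀ s : A.obj.obj (op W), ∃ (a : _) (x : A.obj.obj (op ((stg w).obj a))), A.obj.map ((stgCone w).π.app a).op x = s
  kill : ∀ (U₀ : Y.Etale) (_ : IsAffine U₀.left) (W : Y.ProEt) (w : W ⟶ (ProEtS.eps Y).obj U₀), IsPro (ovS w) →
    ∀ (a : _) (x : A.obj.obj (op ((stg w).obj a))), A.obj.map ((stgCone w).π.app a).op x = 0 →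
      ∃ (b : _) (g : b ⟶ a), A.obj.map ((stg w).map g).op x = 0

variable {A}

theorem bijective_counit_eps (U : Y.Etale) :
    Function.Bijective (((ProEtS.epsAdj Y).counit.app A).hom.app (op ((ProEtS.eps Y).obj U))) := by
  have := isIso_unit_eps (X := Y) ((ProEtS.epsPush Y).obj A)
  have h := (ProEtS.epsAdj Y).right_triangle_components A
  have e : (ProEtS.epsPush Y).map ((ProEtS.epsAdj Y).counit.app A) =
      inv ((ProEtS.epsAdj Y).unit.app ((ProEtS.epsPush Y).obj A)) := (IsIso.eq_inv_of_hom_inv_id h)
  have hi : IsIso (((sheafToPresheaf _ _) ⋙ (evaluation _ AddCommGrpCat.{u + 1}).obj (op U)).map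
      ((ProEtS.epsPush Y).map ((ProEtS.epsAdj Y).counit.app A))) := by
    rw [e]; infer_instance
  exact ConcreteCategory.bijective_of_isIso
    (((sheafToPresheaf _ _) ⋙ (evaluation _ AddCommGrpCat.{u + 1}).obj (op U)).map
      ((ProEtS.epsPush Y).map ((ProEtS.epsAdj Y).counit.app A)))

theorem bijective_counit_pro (hA : StageSec A) {U₀ : Y.Etale} [IsAffine U₀.left] {W : Y.ProEt}
    (w : W ⟶ (ProEtS.eps Y).obj U₀) (hW : IsPro (ovS w)) :
    Function.Bijective (((ProEtS.epsAdj Y).counit.app A).hom.app (op W)) := by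
  let C : ProEtS.AbP Y := (ProEtS.epsPull Y).obj ((ProEtS.epsPush Y).obj A)
  let c : C ⟶ A := (ProEtS.epsAdj Y).counit.app A
  have hb : ∀ a, Function.Bijective (c.hom.app (op ((stg w).obj a))) := fun a =>
    bijective_counit_eps ((toX U₀).obj a.right)
  have hC : LimSec.FromEt C := LimSec.fromEt_epsPull _
  refine ⟨(injective_iff_map_eq_zero _).2 fun y hy => ?_, fun s => ?_⟩
  · change c.hom.app (op W) y = 0 at hy
    haveI : ∀ (i j : _) (g : i ⟶ j), IsAffineHom ((stg w).map g).left := fun i j g =>
      @isAffineHom_of_isAffine _ _ _ (isAffine_stg w i) (isAffine_stg w j)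
    haveI : ∀ i, CompactSpace ((stg w).obj i).left := fun i => by have := isAffine_stg w i; infer_instance
    haveI : ∀ i, QuasiSeparatedSpace ((stg w).obj i).left := fun i => by have := isAffine_stg w i; infer_instance
    obtain ⟨a, y', hy'⟩ := LimSec.exists_lift (nonempty_isLimit_stgCone hW).some hC y
    have h0 : A.obj.map ((stgCone w).π.app a).op (c.hom.app _ y') = 0 := by
      refine ((NatTrans.naturality_apply c.hom ((stgCone w).π.app a).op y').symm.trans ?_)
      exact (congrArg (c.hom.app (op W)) hy').trans hy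
    obtain ⟨b, g, hg⟩ := hA.kill U₀ ‹_› W w hW a _ h0
    have h1 : C.obj.map ((stg w).map g).op y' = 0 := (hb b).1 (by
      rw [map_zero, NatTrans.naturality_apply]; exact hg)
    rw [← hy', ← (stgCone w).w g, op_comp, Functor.map_comp]
    exact (congrArg (C.obj.map ((stgCone w).π.app b).op) h1).trans (map_zero _)
  · obtain ⟨a, x, hx⟩ := hA.lift U₀ ‹_› W w hW s
    obtain ⟨y, hy⟩ := (hb a).2 x
    exact ⟨C.obj.map ((stgCone w).π.app a).op y,
      (NatTrans.naturality_apply c.hom _ y).trans ((congrArg _ hy).trans hx)⟩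

theorem isIso_counit_of_stageSec (hA : StageSec A) : IsIso ((ProEtS.epsAdj Y).counit.app A) := by
  let C : ProEtS.AbP Y := (ProEtS.epsPull Y).obj ((ProEtS.epsPush Y).obj A)
  let c : C ⟶ A := (ProEtS.epsAdj Y).counit.app A
  have hbij : ∀ P, IsProObj P → Function.Bijective (c.hom.app (op P)) := fun P => by
    rintro ⟨U₀, hU₀, w, hw⟩
    exact bijective_counit_pro hA w hw
  haveI : Mono c := by
    refine Sheaf.mono_of_injective _ fun d => ?_
    refine (injective_iff_map_eq_zero _).2 fun y hy => ?_
    obtain ⟨ι, V, g, hg, hV⟩ := exists_isProObj_cover d.unop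
    refine C.2.isSeparated d.unop _ hg y 0 ?_
    rintro Z h ⟨V', a, _, ⟨i⟩, rfl⟩
    have : C.obj.map (g i).op y = 0 := (hbij _ (hV i)).1 (by
      rw [map_zero]
      exact (NatTrans.naturality_apply c.hom (g i).op y).trans ((congrArg _ hy).trans (map_zero _)))
    rw [op_comp, Functor.map_comp, ConcreteCategory.comp_apply, ConcreteCategory.comp_apply, this, map_zero,
      map_zero, map_zero]
  haveI : Epi c := by
    rw [← Sheaf.isLocallySurjective_iff_epi']
    refine ⟨fun {T} s => ?_⟩
    obtain ⟨ι, V, g, hg, hV⟩ := exists_isProObj_cover T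
    refine GrothendieckTopology.superset_covering _ ?_ hg
    rintro Z h ⟨V', a, _, ⟨i⟩, rfl⟩
    obtain ⟨t, ht⟩ := (hbij _ (hV i)).2 (A.obj.map (g i).op s)
    exact Sieve.downward_closed (Presheaf.imageSieve c.hom s) ⟨t, ht⟩ a
  exact isIso_of_mono_of_epi c

end Counit

variable (f : X ⟶ Y)

/-- base change commutes with the inclusions of the etale sites -/
def bcEps : EtCoh.bc f ⋙ ProEtS.eps X ≅ ProEtS.eps Y ⋙ ProEtS.bcP f :=
  NatIso.ofComponents (fun U => MorphismProperty.Over.isoMk (Iso.refl _) (Category.id_comp _))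
    fun {U V} g => MorphismProperty.Over.Hom.ext ((Category.comp_id _).trans (Category.id_comp _).symm)

variable [ProEtS.EpsCont X] [ProEtS.EpsCont Y] [ProEtS.PCont f]

/-- direct images commute with restriction to the etale sites -/
def pushEps : ProEtS.epsPush X ⋙ EtCoh.push f ≅ ProEtS.pushP f ⋙ ProEtS.epsPush Y :=
  NatIso.ofComponents
    (fun A => (fullyFaithfulSheafToPresheaf _ _).preimageIso
      (Functor.isoWhiskerRight (NatIso.op (bcEps f)).symm A.obj))
    fun {A B} φ => (fullyFaithfulSheafToPresheaf _ _).map_injective (by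
      ext U : 2
      simp only [Functor.map_comp, Functor.FullyFaithful.preimageIso_hom, Functor.FullyFaithful.map_preimage]
      exact φ.hom.naturality _ |>.symm)

variable [QuasiCompact f] [QuasiSeparated f]

theorem stageSec_pushP (F : EtCoh.Ab X) : StageSec ((ProEtS.pushP f).obj ((ProEtS.epsPull X).obj F)) := by
  refine ⟨fun U₀ hU₀ W w hW s => ?_, fun U₀ hU₀ W w hW a x hx => ?_⟩
  all_goals
    have hS := qSys_bcP f w
    haveI := hS.aff
    haveI := hS.cpt
    haveI := hS.qs
  · exact LimSec.exists_lift (nonempty_isLimit_bcP f hW).some (LimSec.fromEt_epsPull F) s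
  · exact LimSec.exists_kill (nonempty_isLimit_bcP f hW).some (LimSec.fromEt_epsPull F) x hx

/-- the comparison in degree zero, on an object -/
def push0App (F : EtCoh.Ab X) : (ProEtS.epsPull Y).obj ((EtCoh.push f).obj F) ≅
    (ProEtS.pushP f).obj ((ProEtS.epsPull X).obj F) :=
  haveI := isIso_unit_eps (X := X) F
  haveI := isIso_counit_of_stageSec (stageSec_pushP f F)
  (ProEtS.epsPull Y).mapIso ((EtCoh.push f).mapIso (asIso ((ProEtS.epsAdj X).unit.app F)) ≪≫
      (pushEps f).app ((ProEtS.epsPull X).obj F)) ≪≫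
    asIso ((ProEtS.epsAdj Y).counit.app ((ProEtS.pushP f).obj ((ProEtS.epsPull X).obj F)))

/-- the comparison in degree zero -/
def push0 : EtCoh.push f ⋙ ProEtS.epsPull Y ≅ ProEtS.epsPull X ⋙ ProEtS.pushP f :=
  NatIso.ofComponents (push0App f) fun {F G} φ => by
    have h1 := congrArg (EtCoh.push f).map ((ProEtS.epsAdj X).unit.naturality φ)
    have h2 := (pushEps f).hom.naturality ((ProEtS.epsPull X).map φ)
    have h3 := (ProEtS.epsAdj Y).counit.naturality ((ProEtS.pushP f).map ((ProEtS.epsPull X).map φ))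
    simp only [Functor.map_comp, Functor.comp_map, Functor.id_map, Functor.id_obj, Functor.comp_obj] at h1 h2 h3
    simp only [push0App, Iso.trans_hom, Functor.mapIso_hom, asIso_hom, Iso.app_hom, Functor.comp_map,
      Functor.map_comp, Category.assoc]
    rw [← Functor.map_comp_assoc, h1, Functor.map_comp_assoc, ← Functor.map_comp_assoc (ProEtS.epsPull Y) _ ((pushEps f).hom.app _),
      h2, Functor.map_comp_assoc, h3]

end Groth.Agent.ProEtLib.PushCmp
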