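import Groth.Agent.ProEtLib.PushCmp.Degree0
import Groth.Agent.ProEtLib.EpsExt
import Groth.Agent.TopDescent.PrecompAcyclic

/-! higher direct images along qcqs morphisms commute with the pullback from the etale site -/

universe v v' v'' u u' u''

open CategoryTheory CategoryTheory.Limits AlgebraicGeometry Opposite

noncomputable section

set_option backward.isDefEq.respectTransparency false
set_option backward.isDefEq.respectTransparency.types false

namespace Groth.Agent.ProEtLib.PushCmp

section Abstract

variable {A : Type u} [Category.{v} A] [Abelian A] [EnoughInjectives A]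
  {B : Type u'} [Category.{v'} B] [Abelian B] {C : Type u''} [Category.{v''} C] [Abelian C]

/-- derived functors of isomorphic functors -/
def rightDerivedObjCongr {P Q : A ⥤ B} [P.Additive] [Q.Additive] (e : P ≅ Q) (q : ℕ) (Z : A) :
    (P.rightDerived q).obj Z ≅ (Q.rightDerived q).obj Z :=
  let R := injectiveResolution Z
  R.isoRightDerivedObj P q ≪≫ (HomologicalComplex.homologyFunctor _ _ q).mapIso
    ((NatIso.mapHomologicalComplex e (ComplexShape.up ℕ)).app R.cocomplex) ≪≫ (R.isoRightDerivedObj Q q).symm

/-- postcomposition with an exact functor -/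
def rightDerivedPostcompIso (P : A ⥤ B) [P.Additive] (E : B ⥤ C) [E.Additive] [PreservesFiniteLimits E]
    [PreservesFiniteColimits E] (q : ℕ) (Z : A) :
    ((P ⋙ E).rightDerived q).obj Z ≅ E.obj ((P.rightDerived q).obj Z) :=
  let R := injectiveResolution Z
  R.isoRightDerivedObj (P ⋙ E) q ≪≫
    (((P.mapHomologicalComplex (ComplexShape.up ℕ)).obj R.cocomplex).sc q).mapHomologyIso E ≪≫
      E.mapIso (R.isoRightDerivedObj P q).symm

end Abstract

theorem nonempty_RpushP_epsPull {X Y : Scheme.{u}} (f : X ⟶ Y) [QuasiCompact f] [QuasiSeparated f]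
    [ProEtS.EpsCont X] [ProEtS.EpsCont Y] [ProEtS.PCont f] (F : EtCoh.Ab X) (q : ℕ) :
    Nonempty ((ProEtS.RpushP f q).obj ((ProEtS.epsPull X).obj F) ≅
      (ProEtS.epsPull Y).obj ((EtCoh.Rpush f q).obj F)) := by
  have := preservesFiniteLimits_epsPull (X := X)
  have := preservesFiniteLimits_epsPull (X := Y)
  have : PreservesFiniteLimits (ProEtS.pushP f) :=
    have := (ProEtS.pullPushAdjP f).rightAdjoint_preservesLimits
    inferInstance
  obtain ⟨e⟩ := TopDescent.nonempty_rightDerived_precomp_of_acyclic (ProEtS.epsPull X) (ProEtS.pushP f)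
    (fun J hJ i hi => by
      obtain ⟨j, rfl⟩ := Nat.exists_eq_succ_of_ne_zero hi.ne'
      exact @isZero_RpushP_epsPull_injective _ _ f _ _ _ _ J hJ j) q F
  exact ⟨e.symm ≪≫ rightDerivedObjCongr (push0 f).symm q F ≪≫
    rightDerivedPostcompIso (EtCoh.push f) (ProEtS.epsPull Y) q F⟩

end Groth.Agent.ProEtLib.PushCmp
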