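import Groth.Agent.ProEtLib.PushCmp.Class
import Groth.Agent.ProEtLib.EpsClass

/-! Surjectivity of sections on limits of qcqs etale schemes; stability of the class. -/

universe u

open CategoryTheory CategoryTheory.Limits AlgebraicGeometry Opposite MorphismProperty

noncomputable section

set_option backward.isDefEq.respectTransparency false
set_option backward.isDefEq.respectTransparency.types false

namespace Groth.Agent.ProEtLib.PushCmp

open EtModLib ProStage Qcqs

variable {X : Scheme.{u}} {S : ShortComplex (ProEtS.AbP X)}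

theorem d_sub {V U : X.ProEt} {g : V ⟶ U} (D : Powers g) (M : ProEtS.AbP X) {n : ℕ}
    (a b : M.obj.obj (op (D.obj n))) : D.d M.obj (a - b) = D.d M.obj a - D.d M.obj b := by
  simp only [Powers.d, map_sub, smul_sub, Finset.sum_sub_distrib]

theorem surjective_of_powers [ProEtS.EpsCont X] (hS : S.ShortExact) {V W : X.ProEt} {g : V ⟶ W} (D : Powers g)
    (hcov : Sieve.generate (Presieve.singleton g) ∈ Scheme.ProEt.topology X W)
    (h₁ : ∀ y : S.X₁.obj.obj (op (D.obj 1)), D.d S.X₁.obj y = 0 → ∃ v, D.d S.X₁.obj (n := 0) v = y)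
    (hV : Function.Surjective (S.g.hom.app (op V))) :
    Function.Surjective (S.g.hom.app (op W)) := by
  intro s
  let ι₀ : V ⟶ D.obj 0 := D.lift 0 g (fun _ => 𝟙 _) fun _ => Category.id_comp _
  obtain ⟨t₀, ht₀⟩ := hV (S.X₃.obj.map g.op s)
  let t := S.X₂.obj.map (D.pr 0 0).op t₀
  have ht : S.g.hom.app _ t = S.X₃.obj.map (D.toBase 0).op s := by
    rw [NatTrans.naturality_apply, ht₀, ← D.pr_comp 0 0, op_comp, Functor.map_comp, ConcreteCategory.comp_apply]
  have hdt : S.g.hom.app _ (D.d S.X₂.obj t) = 0 := by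
    rw [D.d_natural, ht, Powers.d, Fin.sum_univ_two]
    simp only [← ConcreteCategory.comp_apply, ← Functor.map_comp, ← op_comp, Powers.face, Powers.lift_toBase]
    simp
  obtain ⟨y, hy⟩ := sec_exact hS _ _ hdt
  obtain ⟨b, hb⟩ := h₁ y (sec_injective hS _ (by rw [D.d_natural, hy, map_zero]; exact D.d_d _ _))
  let t' := t - S.f.hom.app _ b
  have hd' : D.d S.X₂.obj t' = 0 := by
    rw [d_sub, ← D.d_natural, hb, hy, sub_self]
  have hsh : Presieve.IsSheafFor (S.X₂.obj ⋙ CategoryTheory.forget AddCommGrpCat.{u + 1})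
      (Presieve.ofArrows (fun _ : Unit => D.obj 0) fun _ => D.toBase 0) := by
    rw [Presieve.isSheafFor_iff_generate]
    refine (isSheaf_iff_isSheaf_of_type _ _).1
      ((sheafCompose _ (CategoryTheory.forget AddCommGrpCat.{u + 1})).obj S.X₂).property _ ?_
    refine GrothendieckTopology.superset_covering _ ?_ hcov
    rintro d h ⟨_, a, _, ⟨⟩, rfl⟩
    exact ⟨_, a ≫ ι₀, D.toBase 0, ⟨()⟩, by rw [Category.assoc, D.lift_toBase]⟩
  obtain ⟨T, hT, -⟩ := (Presieve.isSheafFor_arrows_iff _ _).1 hsh (fun _ => t') fun _ _ Z a a' haa' => by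
    have hq : ∀ j : Fin 2, (![a, a'] j ≫ D.pr 0 0) ≫ g = a ≫ D.toBase 0 := by
      intro j
      rw [Category.assoc, D.pr_comp]
      fin_cases j
      · rfl
      · exact haa'.symm
    let L := D.lift 1 _ _ hq
    have hL : ∀ j : Fin 2, L ≫ D.face 0 j = ![a, a'] (j.succAbove 0) := fun j =>
      D.hom_ext 0 _ _ fun i => by
        obtain rfl : i = 0 := Fin.fin_one_eq_zero i
        rw [Category.assoc, D.face_pr, D.lift_pr]
    have h0 : S.X₂.obj.map L.op (D.d S.X₂.obj t') = 0 := by rw [hd', map_zero]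
    rw [Powers.d, Fin.sum_univ_two, map_add, map_zsmul, map_zsmul] at h0
    simp only [← ConcreteCategory.comp_apply, ← Functor.map_comp, ← op_comp, hL] at h0
    change S.X₂.obj.map a.op t' = S.X₂.obj.map a'.op t'
    simp only [Fin.val_zero, Fin.val_one, pow_zero, pow_one, one_smul, neg_smul, Fin.succAbove_zero,
      show Fin.succAbove (1 : Fin 2) 0 = 0 from rfl] at h0
    exact (sub_eq_zero.1 ((sub_eq_add_neg _ _).trans h0)).symm
  refine ⟨T, S.X₃.2.isSeparated W _ hcov _ _ ?_⟩
  rintro d h ⟨_, a, _, ⟨⟩, rfl⟩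
  rw [show a ≫ g = (a ≫ ι₀) ≫ D.toBase 0 by rw [Category.assoc, D.lift_toBase], op_comp, Functor.map_comp,
    ConcreteCategory.comp_apply, ConcreteCategory.comp_apply]
  congr 1
  rw [← NatTrans.naturality_apply, show S.X₂.obj.map (D.toBase 0).op T = t' from hT (), map_sub, ht,
    ← ConcreteCategory.comp_apply, ← NatTrans.comp_app,
    show S.f.hom ≫ S.g.hom = 0 from congrArg (fun q : S.X₁ ⟶ S.X₃ => q.hom) S.zero]
  exact sub_zero _

theorem exists_affine_etale_cover (U : X.ProEt) [CompactSpace U.left] (hU : Etale U.hom) :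
    ∃ (P : X.ProEt) (g : P ⟶ U), IsAffine P.left ∧ Etale P.hom ∧ Etale g.left ∧ Surjective g.left := by
  obtain ⟨t, ht⟩ := isCompact_univ.elim_finite_subcover
    (fun W : U.left.affineOpens => (W.1 : Set U.left)) (fun W => W.1.2) fun x _ => by
      obtain ⟨W, hW, hx, -⟩ :=
        exists_isAffineOpen_mem_and_subset (show x ∈ (⊤ : U.left.Opens) from trivial)
      exact Set.mem_iUnion.2 ⟨⟨W, hW⟩, hx⟩
  let c : t → Scheme.{u} := fun W => W.1.1.toScheme
  have : ∀ W, IsAffine (c W) := fun W => W.1.2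
  let q : ∀ W, c W ⟶ U.left := fun W => W.1.1.ι
  have hq : Etale (Sigma.desc q) := IsZariskiLocalAtSource.sigmaDesc fun W =>
    inferInstanceAs (Etale W.1.1.ι)
  have : Etale U.hom := hU
  have : WeaklyEtale U.hom := U.prop
  let P : X.ProEt := Scheme.ProEt.mk (Sigma.desc q ≫ U.hom)
  refine ⟨P, MorphismProperty.Over.homMk (Sigma.desc q), inferInstanceAs (IsAffine (∐ c)),
    inferInstanceAs (Etale (Sigma.desc q ≫ U.hom)), hq, ⟨fun x => ?_⟩⟩
  obtain ⟨W, hW, hx⟩ := Set.mem_iUnion₂.1 (ht (Set.mem_univ x))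
  refine ⟨(Sigma.ι c ⟨W, hW⟩).base ⟨x, hx⟩, ?_⟩
  change (Sigma.desc q).base _ = x
  rw [← Scheme.Hom.comp_apply, Sigma.ι_desc]
  rfl

variable [ProEtS.EpsCont X]

theorem surjective_qsys (hS : S.ShortExact) (h₁ : CechClass S.X₁) (h₂ : QClass S.X₁) {I : Type u} [SmallCategory I]
    [IsCofiltered I] {D : I ⥤ X.ProEt} (hD : QSys D) {c : Cone D} (hc : IsLimit (schCone c)) :
    Function.Surjective (S.g.hom.app (op c.pt)) := by
  obtain ⟨i⟩ := (IsCofiltered.nonempty : Nonempty I)
  have := hD.cpt i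
  obtain ⟨P, g, hP, hPe, hge, hgs⟩ := exists_affine_etale_cover (D.obj i) (hD.et i)
  let w := pbSnd g (c.π.app i)
  have hwe : Etale w.left := MorphismProperty.pullback_snd (P := @Etale) _ _ hge
  have hws : Surjective w.left := MorphismProperty.pullback_snd (P := @Surjective) _ _ hgs
  have hcov : Sieve.generate (Presieve.singleton w) ∈ Scheme.ProEt.topology X c.pt := by
    refine mem_topology_of_etale (fun _ : Unit => pbObj g (c.π.app i)) (fun _ => w) (fun _ => hwe) (fun x => ?_)
      fun _ => Sieve.le_generate _ _ _ (Presieve.singleton_self w)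
    exact ⟨(), hws.surj x⟩
  refine surjective_of_powers hS (bpPowers (proPowers g) (c.π.app i)) hcov
    (fun y hy => h₂ I inferInstance inferInstance D hD c hc i P g ⟨inferInstance, inferInstance⟩ hPe 0 y hy) ?_
  let U₀ : X.Etale := toE P hPe
  haveI : IsAffine U₀.left := hP
  let w₀ : pbObj g (c.π.app i) ⟶ (ProEtS.eps X).obj U₀ :=
    MorphismProperty.Over.homMk (pbFst g (c.π.app i)).left (MorphismProperty.Over.w (pbFst g (c.π.app i)))
  have hA : ∀ j, IsAffine ((sch D).obj j) ∨ True := fun j => Or.inr trivial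
  refine surjective_of_cechClass (U₀ := U₀) (w := w₀) hS h₁ ?_
  haveI : ∀ {j k} (a : j ⟶ k), IsAffineHom ((sch D).map a) := fun a => hD.aff _ _ a
  let G : CategoryTheory.Over i ⥤ CategoryTheory.Over U₀.left :=
    { obj := fun a => CategoryTheory.Over.mk
        (show (pbObj g (D.map a.hom)).left ⟶ U₀.left from (pbFst g (D.map a.hom)).left)
      map := fun {a b} h => CategoryTheory.Over.homMk ((EtModLib.pbSys (D := D) g).map h).left
        (pullback.lift_fst _ _ _)
      map_id := fun a => CategoryTheory.Over.OverMorphism.ext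
        (congrArg (fun f => f.left) ((EtModLib.pbSys (D := D) g).map_id a) :)
      map_comp := fun {a b e} h h' => CategoryTheory.Over.OverMorphism.ext
        (congrArg (fun f => f.left) ((EtModLib.pbSys (D := D) g).map_comp h h') :) }
  haveI : ∀ a, IsAffine (G.obj a).left := fun a => by
    have : IsAffineHom (pullback.fst g.left (D.map a.hom).left) :=
      MorphismProperty.pullback_fst (P := @IsAffineHom) _ _ (hD.aff _ _ a.hom)
    exact isAffine_of_isAffineHom (pullback.fst g.left (D.map a.hom).left)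
  haveI : ∀ a, Etale (G.obj a).hom := fun a =>
    MorphismProperty.pullback_fst (P := @Etale) g.left (D.map a.hom).left
      (etale_left_of _ (hD.et a.left) (hD.et i))
  obtain ⟨hl⟩ := nonempty_isLimit_pbCone g hc
  haveI : IsAffine (pbObj g (c.π.app i)).left := by
    have : IsAffineHom ((schCone c).π.app i) := isAffineHom_π_app (sch D) (schCone c) hc i
    have : IsAffineHom (pullback.fst g.left (c.π.app i).left) :=
      MorphismProperty.pullback_fst (P := @IsAffineHom) _ _ this
    exact isAffine_of_isAffineHom (pullback.fst g.left (c.π.app i).left)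
  haveI : IsAffine (ovS w₀).left := inferInstanceAs (IsAffine (pbObj g (c.π.app i)).left)
  exact ProStage.isPro_of_isLimit G
    { app := fun a => CategoryTheory.Over.homMk ((pbCone c g).π.app a).left (pullback.lift_fst _ _ _)
      naturality := fun a b h => CategoryTheory.Over.OverMorphism.ext
        (congrArg (fun f => f.left) ((pbCone c g).π.naturality h) :) }
    hl

theorem qClass_X₃ (hS : S.ShortExact) (h₁ : CechClass S.X₁) (h₁' : QClass S.X₁) (h₂ : QClass S.X₂) :
    QClass S.X₃ := by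
  intro I hI hI' D hD c hc i P g hP hPe n z hz
  have := hD.qs i
  let B := bpPowers (proPowers g) (c.π.app i)
  obtain ⟨y, hy⟩ : ∃ y : S.X₂.obj.obj (op (B.obj (n + 1))), S.g.hom.app _ y = z := surjective_qsys hS h₁ h₁'
    (hD.pbSys ((proPowers g).toBase (n + 1)) (isQcqsP_proPowers g hP _) (etale_proPowers g hPe (hD.et i) _))
    (nonempty_isLimit_pbCone ((proPowers g).toBase (n + 1)) hc).some z
  change B.d S.X₃.obj z = 0 at hz
  have h0 : S.g.hom.app _ (B.d S.X₂.obj y) = 0 := by rw [B.d_natural, hy, hz]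
  obtain ⟨x, hx⟩ := sec_exact hS _ _ h0
  obtain ⟨x', hx'⟩ := h₁' I hI hI' D hD c hc i P g hP hPe (n + 1) x (sec_injective hS _ (by
    rw [Powers.d_natural, hx, map_zero]; exact B.d_d S.X₂.obj y))
  obtain ⟨v, hv⟩ := h₂ I hI hI' D hD c hc i P g hP hPe n (y - S.f.hom.app _ x') (by
    rw [d_sub, ← Powers.d_natural, hx', hx, sub_self])
  refine ⟨S.g.hom.app _ v, ?_⟩
  rw [← Powers.d_natural, hv, map_sub, hy, ← ConcreteCategory.comp_apply, ← NatTrans.comp_app,
    show S.f.hom ≫ S.g.hom = 0 from congrArg (fun q : S.X₁ ⟶ S.X₃ => q.hom) S.zero]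
  exact sub_zero _

end Groth.Agent.ProEtLib.PushCmp
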